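import Groth.Agent.EtPhAcy.Eps
import Groth.Agent.GalTorLib.CohDim
import Groth.Agent.S14622
import Groth.Agent.S0125

/-!
# Cocycles which become coboundaries on a proper surjective cover
-/

set_option autoImplicit false
set_option linter.style.haveILetI false
set_option backward.isDefEq.respectTransparency false
set_option backward.isDefEq.respectTransparency.types false
set_option maxHeartbeats 1000000

universe w u

open CategoryTheory CategoryTheory.Limits AlgebraicGeometry Opposite

namespace Groth.Agent.EtPhAcy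

open BigSiteLib

variable {K : Precoverage Scheme.{u}} [∀ X : Scheme.{u}, BigSite.EpsCont Scheme.etalePrecoverage K X]
  {X : Scheme.{u}}

/-- The section is locally a coboundary for the etale topology. -/
abbrev Bd (C : CochainComplex (BigSite.Ab K X) ℕ) (m : ℕ) {T : Over X} (x : (C.X (m + 1)).obj.obj (op T)) : Prop :=
  Presheaf.imageSieve (C.d m (m + 1)).hom x ∈ QuotSh.J Scheme.etalePrecoverage X T

omit [∀ X : Scheme.{u}, BigSite.EpsCont Scheme.etalePrecoverage K X] in
theorem map_map_apply (G : BigSite.Ab K X) {A B D : Over X} (f : A ⟶ B) (g : B ⟶ D) (x : G.obj.obj (op D)) :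
    G.obj.map f.op (G.obj.map g.op x) = G.obj.map (f ≫ g).op x :=
  EtInd.mapP (P := G.obj ⋙ forget _) f g x

omit [∀ X : Scheme.{u}, BigSite.EpsCont Scheme.etalePrecoverage K X] in
theorem bd_restrict (C : CochainComplex (BigSite.Ab K X) ℕ) (m : ℕ) {T T' : Over X} (f : T' ⟶ T)
    {x : (C.X (m + 1)).obj.obj (op T)} (h : Bd C m x) : Bd C m ((C.X (m + 1)).obj.map f.op x) := by
  refine GrothendieckTopology.superset_covering _ ?_ (GrothendieckTopology.pullback_stable _ f h)
  rintro V g ⟨t, ht⟩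
  exact ⟨t, ht.trans (map_map_apply (C.X (m + 1)) g f x).symm⟩

omit [∀ X : Scheme.{u}, BigSite.EpsCont Scheme.etalePrecoverage K X] in
theorem bd_of_sieve (C : CochainComplex (BigSite.Ab K X) ℕ) (m : ℕ) {T : Over X} {x : (C.X (m + 1)).obj.obj (op T)}
    (S : Sieve T) (hS : S ∈ QuotSh.J Scheme.etalePrecoverage X T)
    (h : ∀ ⦃V : Over X⦄ (g : V ⟶ T), S g → Bd C m ((C.X (m + 1)).obj.map g.op x)) : Bd C m x := by
  refine GrothendieckTopology.transitive _ hS _ fun V g hg => ?_
  refine GrothendieckTopology.superset_covering _ ?_ (h g hg)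
  rintro W k ⟨t, ht⟩
  exact ⟨t, ht.trans (map_map_apply (C.X (m + 1)) k g x)⟩

omit [∀ X : Scheme.{u}, BigSite.EpsCont Scheme.etalePrecoverage K X] in
theorem bd_of_cover (C : CochainComplex (BigSite.Ab K X) ℕ) (m : ℕ) {T : Over X} {x : (C.X (m + 1)).obj.obj (op T)}
    {ι : Type w} (Z : ι → Over X) (k : ∀ i, Z i ⟶ T) (he : ∀ i, Etale (k i).left)
    (hs : ∀ t : T.left, ∃ i, t ∈ Set.range (k i).left)
    (h : ∀ i, Bd C m ((C.X (m + 1)).obj.map (k i).op x)) : Bd C m x := by
  refine bd_of_sieve C m _ (EtInd.ofArrows_mem_et Z k he hs) ?_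
  rintro V g ⟨_, c, _, ⟨i⟩, rfl⟩
  rw [← map_map_apply]
  exact bd_restrict C m c (h i)

omit [∀ X : Scheme.{u}, BigSite.EpsCont Scheme.etalePrecoverage K X] in
theorem bd_of_iso (C : CochainComplex (BigSite.Ab K X) ℕ) (m : ℕ) {T T' : Over X} (e : T' ≅ T)
    {x : (C.X (m + 1)).obj.obj (op T)} (h : Bd C m ((C.X (m + 1)).obj.map e.hom.op x)) : Bd C m x := by
  haveI : IsIso e.hom.left := inferInstanceAs (IsIso ((Over.forget X).map e.hom))
  refine bd_of_cover C m (fun _ : PUnit.{1} => T') (fun _ => e.hom) (fun _ => inferInstance)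
    (fun t => ⟨PUnit.unit, e.hom.left.surjective t⟩) fun _ => h

omit [∀ X : Scheme.{u}, BigSite.EpsCont Scheme.etalePrecoverage K X] in
/-- Restriction along a morphism of base schemes keeps the condition. -/
theorem bd_map_iff {X' : Scheme.{u}} (a : X' ⟶ X) (C : CochainComplex (BigSite.Ab K X) ℕ) (m : ℕ) (U : Over X')
    (x : (C.X (m + 1)).obj.obj (op ((Over.map a).obj U))) :
    Bd (((BigSite.pullBig K a AddCommGrpCat.{u + 1}).mapHomologicalComplex _).obj C) m (T := U) x ↔ Bd C m x := by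
  let R : Sieve U := Presheaf.imageSieve
    ((((BigSite.pullBig K a AddCommGrpCat.{u + 1}).mapHomologicalComplex _).obj C).d m (m + 1)).hom x
  have e : Sieve.overEquiv U R =
      Sieve.overEquiv ((Over.map a).obj U) (Presheaf.imageSieve (C.d m (m + 1)).hom x) := by
    ext W f
    refine (Sieve.overEquiv_iff R f).trans (Iff.trans ?_
      (Sieve.overEquiv_iff (Presheaf.imageSieve (C.d m (m + 1)).hom x) f).symm)
    let f₁ : Over.mk (f ≫ U.hom) ⟶ U := Over.homMk f
    let f₂ : Over.mk (f ≫ ((Over.map a).obj U).hom) ⟶ (Over.map a).obj U := Over.homMk f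
    let e₁ : Over.mk (f ≫ ((Over.map a).obj U).hom) ⟶ (Over.map a).obj (Over.mk (f ≫ U.hom)) :=
      Over.homMk (𝟙 _) ((Category.id_comp _).trans (Category.assoc _ _ _))
    let e₂ : (Over.map a).obj (Over.mk (f ≫ U.hom)) ⟶ Over.mk (f ≫ ((Over.map a).obj U).hom) :=
      Over.homMk (𝟙 _) ((Category.id_comp _).trans (Category.assoc _ _ _).symm)
    have h₁ : e₁ ≫ (Over.map a).map f₁ = f₂ := Over.OverMorphism.ext (Category.id_comp _)
    have h₂ : e₂ ≫ f₂ = (Over.map a).map f₁ := Over.OverMorphism.ext (Category.id_comp _)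
    constructor
    · intro h
      show Presheaf.imageSieve (C.d m (m + 1)).hom x f₂
      have h' : Presheaf.imageSieve (C.d m (m + 1)).hom x ((Over.map a).map f₁) := h
      rw [← h₁]
      exact Sieve.downward_closed _ h' e₁
    · intro h
      show Presheaf.imageSieve (C.d m (m + 1)).hom x ((Over.map a).map f₁)
      rw [← h₂]
      exact Sieve.downward_closed _ h e₂
  show Sieve.overEquiv U R ∈ Scheme.etalePrecoverage.toGrothendieck U.left ↔
    Sieve.overEquiv ((Over.map a).obj U) (Presheaf.imageSieve (C.d m (m + 1)).hom x) ∈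
      Scheme.etalePrecoverage.toGrothendieck U.left
  rw [e]

/-- A cocycle which becomes a coboundary in a partial resolution is locally a coboundary. -/
theorem boundary_of_comparison {G M : BigSite.Ab K X} (I : InjectiveResolution G) (j : G ⟶ M) (m : ℕ)
    [Mono (((epsK K X).rightDerived (m + 1)).map j)]
    (C : CochainComplex (BigSite.Ab K X) ℕ) (ι : M ⟶ C.X 0) [Mono ι] (hιd : ι ≫ C.d 0 1 = 0)
    (h₀ : (ShortComplex.mk ι (C.d 0 1) hιd).Exact) (hC : ∀ k < m, (FppfDesc.scAt C k).Exact)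
    (η : I.cocomplex ⟶ C) (hη : I.ι.f 0 ≫ η.f 0 = j ≫ ι) (U : Over X)
    (x : (I.cocomplex.X (m + 1)).obj.obj (op U)) (hx : (I.cocomplex.d (m + 1) (m + 2)).hom.app (op U) x = 0)
    (y : (C.X m).obj.obj (op U))
    (hy : (C.d m (m + 1)).hom.app (op U) y = (η.f (m + 1)).hom.app (op U) x) : Bd I.cocomplex m x := by
  let J := injectiveResolution M
  let φ := InjectiveResolution.desc j J I
  let g₁ : I.cocomplex.X (m + 1) ⊞ C.X m ⟶ I.cocomplex.X (m + 2) := biprod.fst ≫ I.cocomplex.d (m + 1) (m + 2)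
  let g₂ : kernel g₁ ⟶ C.X (m + 1) := kernel.ι g₁ ≫ (biprod.fst ≫ η.f (m + 1) - biprod.snd ≫ C.d m (m + 1))
  let sA : kernel g₂ ⟶ I.cocomplex.X (m + 1) := kernel.ι g₂ ≫ kernel.ι g₁ ≫ biprod.fst
  let tA : kernel g₂ ⟶ C.X m := kernel.ι g₂ ≫ kernel.ι g₁ ≫ biprod.snd
  have hs : sA ≫ I.cocomplex.d (m + 1) (m + 2) = 0 := by
    simp only [sA, Category.assoc]
    rw [show kernel.ι g₁ ≫ biprod.fst ≫ I.cocomplex.d (m + 1) (m + 2) = 0 from kernel.condition g₁, comp_zero]
  have ht : sA ≫ η.f (m + 1) = tA ≫ C.d m (m + 1) := by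
    have h := kernel.condition g₂
    simp only [g₂, Preadditive.comp_sub, sub_eq_zero] at h
    simpa only [sA, tA, Category.assoc] using h
  obtain ⟨r, hr⟩ := FppfDesc.exists_coboundary I J j φ (InjectiveResolution.desc_commutes_zero _ _ _) C ι η
    hη hιd h₀ m hC sA hs tA ht
  let ε := epsK K X
  haveI hmono : Mono ((ε.mapHomologicalComplex (ComplexShape.up ℕ) ⋙ HomologicalComplex.homologyFunctor _ _ (m + 1)).map φ) := by
    have h := InjectiveResolution.isoRightDerivedObj_hom_naturality j I J φ (InjectiveResolution.desc_commutes_zero _ _ _) ε (m + 1)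
    have h' : (ε.mapHomologicalComplex (ComplexShape.up ℕ) ⋙ HomologicalComplex.homologyFunctor _ _ (m + 1)).map φ =
        (I.isoRightDerivedObj ε (m + 1)).inv ≫ (ε.rightDerived (m + 1)).map j ≫ (J.isoRightDerivedObj ε (m + 1)).hom := by
      rw [h, Iso.inv_hom_id_assoc]
    rw [h']; infer_instance
  let εI := (ε.mapHomologicalComplex (ComplexShape.up ℕ)).obj I.cocomplex
  let εJ := (ε.mapHomologicalComplex (ComplexShape.up ℕ)).obj J.cocomplex
  let εφ : εI ⟶ εJ := (ε.mapHomologicalComplex (ComplexShape.up ℕ)).map φ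
  have hs' : ε.map sA ≫ εI.d (m + 1) (m + 2) = 0 :=
    (ε.map_comp _ _).symm.trans ((congrArg ε.map hs).trans (ε.map_zero _ _))
  have hzero : εI.liftCycles (ε.map sA) (m + 2) (by simp) hs' ≫ εI.homologyπ (m + 1) = 0 := by
    haveI : Mono (HomologicalComplex.homologyMap εφ (m + 1)) := hmono
    refine (cancel_mono (HomologicalComplex.homologyMap εφ (m + 1))).1 ?_
    rw [zero_comp, Category.assoc, HomologicalComplex.homologyπ_naturality, ← Category.assoc,
      HomologicalComplex.liftCycles_comp_cyclesMap]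
    refine (εJ.liftCycles_comp_homologyπ_eq_zero_iff_up_to_refinements m (m + 1) (m + 2) (by simp) (by simp) _ _).2
      ⟨_, 𝟙 _, inferInstance, ε.map r, ?_⟩
    rw [Category.id_comp]
    exact ((ε.map_comp _ _).symm.trans (congrArg ε.map hr)).trans (ε.map_comp _ _)
  obtain ⟨A', π, hπ, w, hw⟩ :=
    (εI.liftCycles_comp_homologyπ_eq_zero_iff_up_to_refinements m (m + 1) (m + 2) (by simp) (by simp) _ hs').1 hzero
  let b : (I.cocomplex.X (m + 1) ⊞ C.X m).obj.obj (op U) :=
    (biprod.inl : _ ⟶ I.cocomplex.X (m + 1) ⊞ C.X m).hom.app (op U) x + (biprod.inr : _ ⟶ I.cocomplex.X (m + 1) ⊞ C.X m).hom.app (op U) y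
  have happ : ∀ {A B D : BigSite.Ab K X} (f : A ⟶ B) (g : B ⟶ D) (a : A.obj.obj (op U)),
      g.hom.app (op U) (f.hom.app (op U) a) = (f ≫ g).hom.app (op U) a := fun f g a =>
    (ConcreteCategory.comp_apply _ _ a).symm
  have hb₁ : (biprod.fst : I.cocomplex.X (m + 1) ⊞ C.X m ⟶ _).hom.app (op U) b = x := by
    simp only [b, map_add, happ, biprod.inl_fst, biprod.inr_fst]
    exact add_zero x
  have hb₂ : (biprod.snd : I.cocomplex.X (m + 1) ⊞ C.X m ⟶ _).hom.app (op U) b = y := by
    simp only [b, map_add, happ, biprod.inl_snd, biprod.inr_snd]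
    exact zero_add y
  obtain ⟨c, hc⟩ := FppfDesc.exists_kernel_section g₁ b ((happ _ _ b).symm.trans ((congrArg _ hb₁).trans hx))
  obtain ⟨a, ha⟩ := FppfDesc.exists_kernel_section g₂ c (by
    refine (happ _ _ c).symm.trans ((congrArg _ hc).trans ?_)
    show (biprod.fst ≫ η.f (m + 1)).hom.app (op U) b - (biprod.snd ≫ C.d m (m + 1)).hom.app (op U) b = 0
    rw [← happ, ← happ, hb₁, hb₂]
    exact sub_eq_zero.2 hy.symm)
  have hsa : sA.hom.app (op U) a = x := by
    simp only [sA, ← happ]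
    rw [ha, hc, hb₁]
  haveI := (Sheaf.isLocallySurjective_iff_epi' AddCommGrpCat.{u + 1} π).2 hπ
  refine GrothendieckTopology.superset_covering _ ?_ (Presheaf.imageSieve_mem (QuotSh.J Scheme.etalePrecoverage X) π.hom a)
  rintro V k ⟨a', ha'⟩
  refine ⟨w.hom.app (op V) a', ?_⟩
  have h1 : (εI.d m (m + 1)).hom.app (op V) (w.hom.app (op V) a') = (ε.map sA).hom.app (op V) (π.hom.app (op V) a') :=
    ((ConcreteCategory.comp_apply _ _ a').symm.trans (congrArg (fun t => t.hom.app (op V) a') hw.symm)).trans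
      (ConcreteCategory.comp_apply _ _ a')
  refine h1.trans ((congrArg _ ha').trans ?_)
  exact (ConcreteCategory.congr_hom (sA.hom.naturality k.op) a).trans
    (congrArg ((I.cocomplex.X (m + 1)).obj.map k.op) hsa)

variable (hph : K ≤ HTop.phPrecoverage) (hK : Scheme.etalePrecoverage ≤ K)

include hK in
/-- A cocycle which is locally a coboundary on a proper surjective cover is locally a coboundary. -/
theorem bd_of_proper (m : ℕ) (ih : ∀ k < m, Acy hph k) {Y : Scheme.{u}} (p : Y ⟶ X) [IsProper p] [Surjective p]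
    (F : EtCoh.Ab X) (hF : EtCoh.IsTorsion F) (I : InjectiveResolution (piK hph F)) (U : Over X)
    (x : (I.cocomplex.X (m + 1)).obj.obj (op U)) (hx : (I.cocomplex.d (m + 1) (m + 2)).hom.app (op U) x = 0)
    (hb : Bd I.cocomplex m ((I.cocomplex.X (m + 1)).obj.map ((Over.mapPullbackAdj p).counit.app U).op x)) :
    Bd I.cocomplex m x := by
  have hFY := GalTorLib.isTorsion_pull p F hF
  obtain ⟨H, h, hh, hH, hac⟩ := EtPBCq.exists_hull_Rpush p ((EtCoh.pull p).obj F) hFY
  let P := BigSite.pushBig K p AddCommGrpCat.{u + 1}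
  let Q := BigSite.pullBig K p AddCommGrpCat.{u + 1}
  let Pe := BigSite.pushBig Scheme.etalePrecoverage p AddCommGrpCat.{u + 1}
  let adj : Q ⊣ P := BigSite.bigAdj K p AddCommGrpCat.{u + 1}
  haveI : P.IsRightAdjoint := adj.isRightAdjoint
  haveI : Pe.IsRightAdjoint := (BigSite.bigAdj Scheme.etalePrecoverage p AddCommGrpCat.{u + 1}).isRightAdjoint
  haveI : (EtCoh.push p).IsRightAdjoint := (EtCoh.pullPushAdj p).isRightAdjoint
  let j₀ : F ⟶ (EtCoh.push p).obj H := (EtCoh.pullPushAdj p).unit.app F ≫ (EtCoh.push p).map h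
  haveI : Mono j₀ := by
    haveI := S14622.result p F
    exact mono_comp _ _
  have hP : EtCoh.IsTorsion ((EtCoh.push p).obj H) :=
    isTorsion_of_epi ((EtCoh.push p).rightDerivedZeroIsoSelf.hom.app H) (S0125.result p H hH 0)
  haveI := mono_rightDerived_piKMap hph hK j₀ hP m ih
  let j : piK hph F ⟶ P.obj (piK hph H) := piKMap hph j₀ ≫ (piKPushIso hph p H).hom
  haveI : Mono (((epsK K X).rightDerived (m + 1)).map j) := by
    simp only [j, Functor.map_comp]; infer_instance
  let L := injectiveResolution (piK hph H)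
  let C := (P.mapHomologicalComplex (ComplexShape.up ℕ)).obj L.cocomplex
  let εL := ((epsK K Y).mapHomologicalComplex (ComplexShape.up ℕ)).obj L.cocomplex
  have hker : ∀ i ≤ m, ∀ a : ℕ, IsZero ((Pe.rightDerived (a + 1)).obj (kernel (εL.d i (i + 1)))) := fun i => by
    induction i with
    | zero =>
      intro _ a
      exact (EtPBCq.isZero_RpushBig p H hH (a + 1) (hac a)).of_iso ((Pe.rightDerived (a + 1)).mapIso
        ((KernelFork.mapIsLimit _ L.isLimitKernelFork (epsK K Y)).conePointUniqueUpToIso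
          (kernelIsKernel (εL.d 0 1))).symm)
    | succ i ihi =>
      intro hi a
      let S := FppfDesc.scAt εL i
      have hS : S.Exact := ih i (Nat.lt_of_succ_le hi) Y H hH L
      let e := kernel.lift S.g S.f S.zero
      haveI : Epi e := S.exact_iff_epi_kernel_lift.1 hS
      have he : e ≫ kernel.ι S.g = S.f := kernel.lift_ι _ _ _
      have w : kernel.ι S.f ≫ e = 0 :=
        (cancel_mono (kernel.ι S.g)).1 (by rw [Category.assoc, he, kernel.condition, zero_comp])
      have hT : (ShortComplex.mk (kernel.ι S.f) e w).ShortExact :=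
        ShortComplex.ShortExact.mk' (ShortComplex.exact_of_f_is_kernel _
          (KernelFork.IsLimit.ofι _ _ (fun k hk => kernel.lift S.f k (by rw [← he, ← Category.assoc, hk, zero_comp]))
            (fun k hk => kernel.lift_ι _ _ _) (fun k hk n hn => (cancel_mono (kernel.ι S.f)).1 (by rw [hn, kernel.lift_ι]))))
          inferInstance inferInstance
      haveI : Injective (εL.X i) := Functor.PreservesInjectiveObjects.injective_obj (F := epsK K Y) (L.injective i)
      obtain ⟨d⟩ := EtPBCq.nonempty_shift Pe hT (a + 1) (Pe.isZero_rightDerived_obj_injective_succ a (εL.X i))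
        (Pe.isZero_rightDerived_obj_injective_succ (a + 1) (εL.X i))
      exact (ihi (Nat.le_of_succ_le hi) (a + 1)).of_iso d
  have hC : ∀ k < m, (FppfDesc.scAt C k).Exact := fun k hk => by
    refine exact_of_eps hK ?_
    have h := exact_map Pe (S := FppfDesc.scAt εL k) (ih k hk Y H hH L) (hker k hk.le 0)
    exact h
  let ιC : P.obj (piK hph H) ⟶ C.X 0 := P.map (L.ι.f 0)
  haveI : Mono (L.ι.f 0) := inferInstance
  haveI : Mono ιC := P.map_mono (L.ι.f 0)
  have hιd : ιC ≫ C.d 0 1 = 0 :=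
    (P.map_comp (L.ι.f 0) (L.cocomplex.d 0 1)).symm.trans ((congrArg P.map L.ι_f_zero_comp_complex_d).trans (P.map_zero _ _))
  have h₀ : (ShortComplex.mk ιC (C.d 0 1) hιd).Exact :=
    ShortComplex.exact_of_f_is_kernel _ (KernelFork.mapIsLimit _ L.isLimitKernelFork P)
  let Ip := SiteBase.mapResolution Q I
  let l : Q.obj (piK hph F) ⟶ piK hph H := (adj.homEquiv _ _).symm j
  let φ : Ip.cocomplex ⟶ L.cocomplex := InjectiveResolution.desc l L Ip
  have hφ : Q.map (I.ι.f 0) ≫ φ.f 0 = l ≫ L.ι.f 0 := by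
    have := InjectiveResolution.desc_commutes_zero l L Ip
    simpa [Ip, SiteBase.mapResolution_ι_f_zero] using this
  let η : I.cocomplex ⟶ C :=
    { f := fun i => adj.homEquiv _ _ (φ.f i)
      comm' := fun i k _ => by
        show adj.homEquiv _ _ (φ.f i) ≫ P.map (L.cocomplex.d i k) = I.cocomplex.d i k ≫ adj.homEquiv _ _ (φ.f k)
        rw [← Adjunction.homEquiv_naturality_right, φ.comm]
        exact adj.homEquiv_naturality_left _ _ }
  have hη : I.ι.f 0 ≫ η.f 0 = j ≫ ιC := by
    show I.ι.f 0 ≫ adj.homEquiv _ _ (φ.f 0) = j ≫ P.map (L.ι.f 0)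
    refine (adj.homEquiv_naturality_left (I.ι.f 0) (φ.f 0)).symm.trans ?_
    refine (congrArg (adj.homEquiv _ _) hφ).trans ?_
    refine (adj.homEquiv_naturality_right l (L.ι.f 0)).trans ?_
    exact congrArg (· ≫ _) ((adj.homEquiv _ _).apply_symm_apply j)
  let W : Over Y := (Over.pullback p).obj U
  let c : (Over.map p).obj W ⟶ U := (Over.mapPullbackAdj p).counit.app U
  let xW : (I.cocomplex.X (m + 1)).obj.obj (op ((Over.map p).obj W)) := (I.cocomplex.X (m + 1)).obj.map c.op x
  let z : (εL.X (m + 1)).obj.obj (op W) := (φ.f (m + 1)).hom.app (op W) xW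
  have hz : Presheaf.imageSieve (L.cocomplex.d m (m + 1)).hom ((φ.f (m + 1)).hom.app (op W) xW) ∈
      QuotSh.J Scheme.etalePrecoverage Y W := by
    refine GrothendieckTopology.superset_covering _ ?_ ((bd_map_iff p I.cocomplex m W xW).2 hb)
    rintro V k ⟨t, ht⟩
    refine ⟨(φ.f m).hom.app (op V) t, ?_⟩
    refine (ConcreteCategory.comp_apply _ _ t).symm.trans ?_
    refine (congrArg (fun q => q.hom.app (op V) t) (φ.comm m (m + 1))).trans ?_
    refine (ConcreteCategory.comp_apply _ _ t).trans ((congrArg _ ht).trans ?_)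
    exact ConcreteCategory.congr_hom ((φ.f (m + 1)).hom.naturality k.op) xW
  let S₂ := ShortComplex.mk (εL.d m (m + 1)) (cokernel.π (εL.d m (m + 1))) (cokernel.condition _)
  have hS₂ : S₂.Exact := ShortComplex.exact_of_g_is_cokernel _ (cokernelIsCokernel _)
  have hkill : S₂.g.hom.app (op W) z = 0 := by
    refine (((isSheaf_iff_isSheaf_of_type _ _).1
      ((Presheaf.isSheaf_iff_isSheaf_forget _ _ (forget AddCommGrpCat.{u + 1})).1 S₂.X₃.property)) _ hz).isSeparatedFor.ext ?_
    rintro V k ⟨t, ht⟩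
    show S₂.X₃.obj.map k.op _ = S₂.X₃.obj.map k.op 0
    rw [map_zero]
    refine (ConcreteCategory.congr_hom (S₂.g.hom.naturality k.op) z).symm.trans ?_
    refine (congrArg (S₂.g.hom.app (op V)) ht.symm).trans ?_
    refine (ConcreteCategory.comp_apply _ _ t).symm.trans ?_
    exact congrArg (fun q => q.hom.app (op V) t) S₂.zero
  have hS₃ := exact_map Pe (S := S₂) hS₂ (hker m le_rfl 0)
  refine bd_of_sieve I.cocomplex m _ (FppfDesc.locally_boundary hS₃ (U := U) z hkill) ?_
  rintro V k ⟨y, hy⟩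
  refine boundary_of_comparison I j m C ιC hιd h₀ hC η hη V _ ?_ y ?_
  · exact (ConcreteCategory.congr_hom ((I.cocomplex.d (m + 1) (m + 2)).hom.naturality k.op) x).trans
      ((congrArg _ hx).trans (map_zero ((I.cocomplex.X (m + 2)).obj.map k.op).hom))
  · refine hy.trans ?_
    exact (ConcreteCategory.congr_hom ((η.f (m + 1)).hom.naturality k.op) x).symm

end Groth.Agent.EtPhAcy
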