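import Groth.Agent.EtPhAcy.Main
import Groth.Agent.EtPBC0.PhPull
import Groth.Agent.S8976
import Groth.Agent.S7190
import Groth.Agent.BigSiteLib.FppfDesc.Descent

/-!
# Comparison of etale and finer cohomology for torsion sheaves
-/

set_option autoImplicit false
set_option linter.style.haveILetI false
set_option backward.isDefEq.respectTransparency false
set_option backward.isDefEq.respectTransparency.types false
set_option maxHeartbeats 1000000

universe u v₁ u₁ v₂ u₂

open CategoryTheory CategoryTheory.Limits AlgebraicGeometry Opposite CategoryTheory.Abelian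
open Groth.Agent.BigSiteLib

namespace Groth.Agent.EtPhAcy

/-- The image of an injective resolution under a left exact functor which keeps it exact. -/
noncomputable def mapResolutionOfExact {A : Type u₁} [Category.{v₁} A] [Abelian A] {B : Type u₂} [Category.{v₂} B]
    [Abelian B] (E : A ⥤ B) [E.Additive] [PreservesFiniteLimits E] [E.PreservesInjectiveObjects] {X : A}
    (I : InjectiveResolution X) (h : ∀ n, ((FppfDesc.scAt I.cocomplex n).map E).Exact) :
    InjectiveResolution (E.obj X) where
  cocomplex := (E.mapHomologicalComplex _).obj I.cocomplex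
  injective := fun n => Functor.PreservesInjectiveObjects.injective_obj (I.injective n)
  ι := (CochainComplex.fromSingle₀Equiv ((E.mapHomologicalComplex _).obj I.cocomplex) (E.obj X)).symm
    ⟨E.map (I.ι.f 0),
      (E.map_comp (I.ι.f 0) (I.cocomplex.d 0 1)).symm.trans
        ((congrArg E.map I.ι_f_zero_comp_complex_d).trans (E.map_zero _ _))⟩
  quasiIso := ⟨fun n => by
    rcases n with _ | n
    · rw [CochainComplex.quasiIsoAt₀_iff, ShortComplex.quasiIso_iff_of_zeros]
      · have hw : E.map (I.ι.f 0) ≫ E.map (I.cocomplex.d 0 1) = 0 :=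
          (E.map_comp (I.ι.f 0) (I.cocomplex.d 0 1)).symm.trans
            ((congrArg E.map I.ι_f_zero_comp_complex_d).trans (E.map_zero _ _))
        haveI : Mono (I.ι.f 0) := inferInstance
        refine (ShortComplex.exact_and_mono_f_iff_of_iso ?_).2
          (show (ShortComplex.mk _ _ hw).Exact ∧ Mono (E.map (I.ι.f 0)) from
            ⟨ShortComplex.exact_of_f_is_kernel _ (KernelFork.mapIsLimit _ I.isLimitKernelFork E), E.map_mono _⟩)
        exact ShortComplex.isoMk (Iso.refl _) (Iso.refl _) (Iso.refl _)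
          (by simp)
          (by simp)
      all_goals first | rfl | simp
    · rw [quasiIsoAt_iff_exactAt]
      · exact FppfDesc.exactAt_of_scAt ((E.mapHomologicalComplex _).obj I.cocomplex) n (h n)
      · exact HomologicalComplex.exactAt_single_obj _ _ _ _ n.succ_ne_zero⟩

open BigSiteLib

section General

variable {K : Precoverage Scheme.{u}} [∀ X : Scheme.{u}, BigSite.EpsCont Scheme.etalePrecoverage K X]
  (hph : K ≤ HTop.phPrecoverage) (hK : Scheme.etalePrecoverage ≤ K) {X : Scheme.{u}}

include hK in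
theorem isZero_rightDerived_epsK (F : EtCoh.Ab X) (hF : EtCoh.IsTorsion F) (q : ℕ) :
    IsZero (((epsK K X).rightDerived (q + 1)).obj (piK hph F)) :=
  isZero_rightDerived_piK hph (acy hph hK q) F hF

include hK in
/-- Direct images along proper morphisms. -/
theorem nonempty_piK_Rpush_iso {Y : Scheme.{u}} (f : X ⟶ Y) [IsProper f] (F : EtCoh.Ab X) (hF : EtCoh.IsTorsion F)
    (q : ℕ) : Nonempty (piK hph ((EtCoh.Rpush f q).obj F) ≅ (BigSite.RpushBig K f q).obj (piK hph F)) := by
  let P := BigSite.pushBig K f AddCommGrpCat.{u + 1}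
  let Pe := BigSite.pushBig Scheme.etalePrecoverage f AddCommGrpCat.{u + 1}
  let I := injectiveResolution (piK hph F)
  let I' := mapResolutionOfExact (epsK K X) I fun n => acy hph hK n X F hF I
  let C := (P.mapHomologicalComplex (ComplexShape.up ℕ)).obj I.cocomplex
  let L := BigSite.epsPull Scheme.etalePrecoverage K Y
  let adj : L ⊣ epsK K Y := BigSite.epsAdj Scheme.etalePrecoverage K Y
  haveI := epsPull_preservesFiniteLimits K Y
  haveI : L.IsLeftAdjoint := adj.isLeftAdjoint
  haveI : L.Additive := adj.left_adjoint_additive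
  haveI : IsIso adj.counit := inferInstance
  let εC := ((epsK K Y).mapHomologicalComplex (ComplexShape.up ℕ)).obj C
  let εC' := (Pe.mapHomologicalComplex (ComplexShape.up ℕ)).obj I'.cocomplex
  let e₁ : εC ≅ εC' := HomologicalComplex.Hom.isoOfComponents (fun _ => Iso.refl _)
    fun i j _ => (Category.id_comp _).trans (Category.comp_id _).symm
  let e₂ : (L.mapHomologicalComplex (ComplexShape.up ℕ)).obj εC ≅ C :=
    HomologicalComplex.Hom.isoOfComponents (fun n => asIso (adj.counit.app (C.X n)))
      fun i j _ => (adj.counit.naturality (C.d i j)).symm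
  obtain ⟨e₃⟩ := EtPBCq.nonempty_piEtPull_Rpush_iso f q F hF
  let h₁ : C.homology q ≅ L.obj (εC.homology q) :=
    ((HomologicalComplex.homologyFunctor _ _ q).mapIso e₂).symm ≪≫ (εC.sc q).mapHomologyIso L
  let h₂ : εC.homology q ≅ (epsK K Y).obj (piK hph ((EtCoh.Rpush f q).obj F)) :=
    (HomologicalComplex.homologyFunctor _ _ q).mapIso e₁ ≪≫ (I'.isoRightDerivedObj Pe q).symm ≪≫ e₃.symm
  exact ⟨(asIso (adj.counit.app (piK hph ((EtCoh.Rpush f q).obj F)))).symm ≪≫ L.mapIso h₂.symm ≪≫ h₁.symm ≪≫
    (I.isoRightDerivedObj P q).symm⟩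

variable [∀ X : Scheme.{u}, BigSite.AEtCont K X]

/-- The pullback to the finer site. -/
noncomputable def piEtPullIso (F : EtCoh.Ab X) : (BigSite.piEtPull K X).obj F ≅ piK hph F :=
  EtPBC0.topIso K.toGrothendieck ((Precoverage.toGrothendieck_mono hph).trans EtPBC0.phTopology_le_vTop)
    (Precoverage.toGrothendieck_mono hK) F

include hph hK in
/-- Higher direct images along proper morphisms commute with pullback to the finer site. -/
theorem nonempty_piEtPull_Rpush_iso {Y : Scheme.{u}} (f : X ⟶ Y) [IsProper f] (F : EtCoh.Ab X) (hF : EtCoh.IsTorsion F)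
    (q : ℕ) : Nonempty ((BigSite.piEtPull K Y).obj ((EtCoh.Rpush f q).obj F) ≅
      (BigSite.RpushBig K f q).obj ((BigSite.piEtPull K X).obj F)) := by
  obtain ⟨e⟩ := nonempty_piK_Rpush_iso hph hK f F hF q
  exact ⟨piEtPullIso hph hK _ ≪≫ e ≪≫ (BigSite.RpushBig K f q).mapIso (piEtPullIso hph hK F).symm⟩

include hph hK in
theorem isZero_Reps_piEtPull (F : EtCoh.Ab X) (hF : EtCoh.IsTorsion F) (q : ℕ) :
    IsZero (((epsK K X).rightDerived (q + 1)).obj ((BigSite.piEtPull K X).obj F)) :=
  (isZero_rightDerived_epsK hph hK F hF q).of_iso (((epsK K X).rightDerived (q + 1)).mapIso (piEtPullIso hph hK F))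

variable (K X) in
/-- Restriction to the small site factors through the big etale site. -/
noncomputable def resEtIso : BigSite.resEt K X ≅ epsK K X ⋙ BigSite.resEt Scheme.etalePrecoverage X :=
  NatIso.ofComponents (fun _ => Iso.refl _) (fun _ => (Category.comp_id _).trans (Category.id_comp _).symm)

include hph hK in
theorem isIso_unit_piEtAdj (F : EtCoh.Ab X) : IsIso ((BigSite.piEtAdj K X).unit.app F) := by
  let hle := (Precoverage.toGrothendieck_mono hph).trans EtPBC0.phTopology_le_vTop.{u}
  haveI : IsIso (EtPBC0.topHom K.toGrothendieck hle F) :=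
    (EtPBC0.topIso K.toGrothendieck hle (Precoverage.toGrothendieck_mono hK) F).isIso_hom
  have h : (BigSite.piEtAdj K X).unit.app F ≫ (BigSite.resEt K X).map (EtPBC0.topHom K.toGrothendieck hle F) =
      ObjectProperty.homMk ((BigSite.piEtAdj Scheme.etalePrecoverage X).unit.app F).hom :=
    ObjectProperty.hom_ext _ (NatTrans.ext (funext fun V => EtPBC0.res_topHom K.toGrothendieck hle F V.unop))
  haveI : IsIso ((BigSite.piEtAdj K X).unit.app F ≫ (BigSite.resEt K X).map (EtPBC0.topHom K.toGrothendieck hle F)) := by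
    rw [h]; exact isIso_unit X F
  exact IsIso.of_isIso_comp_right _ ((BigSite.resEt K X).map (EtPBC0.topHom K.toGrothendieck hle F))

include hph hK in
theorem isZero_RresEt_piEtPull (F : EtCoh.Ab X) (hF : EtCoh.IsTorsion F) (q : ℕ) :
    IsZero ((BigSite.RresEt K X (q + 1)).obj ((BigSite.piEtPull K X).obj F)) := by
  haveI : (BigSite.resEt Scheme.etalePrecoverage X).Additive := ⟨fun {_ _ _ _} => rfl⟩
  exact (Functor.map_isZero (BigSite.resEt Scheme.etalePrecoverage X) (isZero_Reps_piEtPull hph hK F hF q)).of_iso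
    ((rightDerivedIso (resEtIso K X) (q + 1)).app _ ≪≫
      (SiteBase.rightDerivedCompIso (epsK K X) (BigSite.resEt Scheme.etalePrecoverage X) (q + 1)).app _)

omit [∀ X : Scheme.{u}, BigSite.EpsCont Scheme.etalePrecoverage K X] in
theorem injective_resEt (I : BigSite.Ab K X) [Injective I] : Injective ((BigSite.resEt K X).obj I) := by
  haveI := representablyFlat_a X
  haveI : PreservesFiniteLimits (BigSite.piEtPull K X) :=
    sheafPullback_preservesFiniteLimits (EtFppf.a X) X.smallEtaleTopology (QuotSh.J K X)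
  exact Injective.injective_of_adjoint (BigSite.piEtAdj K X) I

/-- Global sections of the restriction. -/
noncomputable def sectEquiv (G : BigSite.Ab K X) : EtCoh.H X ((BigSite.resEt K X).obj G) 0 ≃+ BigSite.H K X G 0 :=
  (Sheaf.H.equiv₀ ((BigSite.resEt K X).obj G) (EtCore.topIsTerminal X)).trans
    ((G.obj.mapIso (Over.isoMk (Iso.refl _) rfl : (EtFppf.a X).obj (EtCoh.top X) ≅ Over.mk (𝟙 X)).symm.op).addCommGroupIsoToAddEquiv.trans
      (Sheaf.H.equiv₀ G Over.mkIdTerminal).symm)

omit [∀ X : Scheme.{u}, BigSite.EpsCont Scheme.etalePrecoverage K X] in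
theorem sectEquiv_natural {G G' : BigSite.Ab K X} (φ : G ⟶ G') (y : BigSite.H K X G 0) :
    (sectEquiv G').symm (y.comp (Ext.mk₀ φ) (add_zero 0)) =
      ((sectEquiv G).symm y).comp (Ext.mk₀ ((BigSite.resEt K X).map φ)) (add_zero 0) := by
  refine (sectEquiv G').injective ?_
  rw [AddEquiv.apply_symm_apply]
  have h : ∀ z : EtCoh.H X ((BigSite.resEt K X).obj G) 0,
      sectEquiv G' (z.comp (Ext.mk₀ ((BigSite.resEt K X).map φ)) (add_zero 0)) =
        (sectEquiv G z).comp (Ext.mk₀ φ) (add_zero 0) := fun z => by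
    refine (congrArg (fun t => (Sheaf.H.equiv₀ G' Over.mkIdTerminal).symm
      ((G'.obj.mapIso (Over.isoMk (Iso.refl _) rfl : (EtFppf.a X).obj (EtCoh.top X) ≅ Over.mk (𝟙 X)).symm.op).addCommGroupIsoToAddEquiv t))
      (Sheaf.H.equiv₀_naturality (EtCore.topIsTerminal X) ((BigSite.resEt K X).map φ) z).symm).trans ?_
    refine Eq.trans ?_ (Sheaf.H.equiv₀_symm_naturality Over.mkIdTerminal φ _).symm
    exact congrArg _ (ConcreteCategory.congr_hom (φ.hom.naturality
      (Over.isoMk (Iso.refl _) rfl : (EtFppf.a X).obj (EtCoh.top X) ≅ Over.mk (𝟙 X)).symm.op.hom) _).symm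
  rw [h, AddEquiv.apply_symm_apply]

include hph hK in
/-- Etale cohomology agrees with cohomology on the finer site. -/
theorem nonempty_H_equiv (F : EtCoh.Ab X) (hF : EtCoh.IsTorsion F) (q : ℕ) :
    Nonempty (EtCoh.H X F q ≃+ BigSite.H K X ((BigSite.piEtPull K X).obj F) q) := by
  haveI : (BigSite.resEt K X).IsRightAdjoint := (BigSite.piEtAdj K X).isRightAdjoint
  haveI := isIso_unit_piEtAdj hph hK F
  obtain ⟨e⟩ := LerayDegen.ext_equiv_of_rightDerived _ _ (BigSite.resEt K X) (fun I hI => haveI := hI; injective_resEt I)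
    (fun G => (sectEquiv G).symm) (fun φ y => sectEquiv_natural φ y) (SESResLib.derivedLES (BigSite.resEt K X))
    ((BigSite.piEtPull K X).obj F) (isZero_RresEt_piEtPull hph hK F hF) q
  exact ⟨((EtCoh.HF X q).mapIso (asIso ((BigSite.piEtAdj K X).unit.app F))).addCommGroupIsoToAddEquiv.trans e.symm⟩

end General

theorem hPrecoverage_le_phPrecoverage : HTop.hPrecoverage.{u} ≤ HTop.phPrecoverage := fun _ R hR => by
  obtain ⟨E, rfl⟩ := R.exists_eq_preZeroHypercover
  obtain ⟨hlfp, hV⟩ := (HTop.presieve₀_mem_hPrecoverage_iff E).1 hR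
  exact (HTop.presieve₀_mem_phPrecoverage_iff E).2 ((S8976.result E hlfp).2 hV)

theorem fppfPrecoverage_le_phPrecoverage : Scheme.fppfPrecoverage.{u} ≤ HTop.phPrecoverage := fun _ R hR => by
  obtain ⟨E, rfl⟩ := R.exists_eq_preZeroHypercover
  obtain ⟨hs, he⟩ := (Scheme.presieve₀_mem_precoverage_iff E).1 hR
  exact (HTop.presieve₀_mem_phPrecoverage_iff E).2 (S7190.result E (fun i => (he i).1) (fun i => (he i).2) hs)

theorem etale_le_ph : Scheme.etalePrecoverage.{u} ≤ HTop.phPrecoverage := fun _ R hR =>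
  EtPBC0.etale_mem_phPrecoverage R hR

theorem etale_le_h : Scheme.etalePrecoverage.{u} ≤ HTop.hPrecoverage := fun _ R hR =>
  EtPBC0.etale_mem_hPrecoverage R hR

instance epsCont_ph (X : Scheme.{u}) : BigSite.EpsCont Scheme.etalePrecoverage HTop.phPrecoverage X :=
  BigSite.epsCont_of_le etale_le_ph X

instance epsCont_h (X : Scheme.{u}) : BigSite.EpsCont Scheme.etalePrecoverage HTop.hPrecoverage X :=
  BigSite.epsCont_of_le etale_le_h X

instance aEtCont_ph (X : Scheme.{u}) : BigSite.AEtCont HTop.phPrecoverage X := BigSite.aEtCont_of_le etale_le_ph X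

instance aEtCont_h (X : Scheme.{u}) : BigSite.AEtCont HTop.hPrecoverage X := BigSite.aEtCont_of_le etale_le_h X

end Groth.Agent.EtPhAcy
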