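import Groth.Agent.EtPBCq.BigEtale
import Groth.Agent.EtPBC0.EtalePh
import Groth.Agent.BigSiteLib.FppfDesc.Main

/-!
# Sheaves for topologies between the etale and the ph topology
-/

set_option autoImplicit false
set_option linter.style.haveILetI false
set_option backward.isDefEq.respectTransparency false
set_option backward.isDefEq.respectTransparency.types false
set_option maxHeartbeats 1000000

universe u v₁ u₁ v₂ u₂

open CategoryTheory CategoryTheory.Limits AlgebraicGeometry Opposite

namespace Groth.Agent.EtPhAcy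

section Generic

variable {A : Type u₁} [Category.{v₁} A] [Abelian A] [EnoughInjectives A] {D : Type u₂} [Category.{v₂} D] [Abelian D]
  (P : A ⥤ D) [P.Additive] [PreservesFiniteLimits P]

theorem epi_map {S : ShortComplex A} (hS : S.ShortExact) (h : IsZero ((P.rightDerived 1).obj S.X₁)) :
    Epi (P.map S.g) := by
  let L := SESResLib.derivedLES P
  haveI : Epi ((P.rightDerived 0).map S.g) := (L.exact₃ S hS 0 1 rfl).epi_f (h.eq_of_tgt _ _)
  have hn : (P.rightDerived 0).map S.g ≫ P.rightDerivedZeroIsoSelf.hom.app S.X₃ =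
      P.rightDerivedZeroIsoSelf.hom.app S.X₂ ≫ P.map S.g := P.rightDerivedZeroIsoSelf.hom.naturality S.g
  haveI : Epi (P.rightDerivedZeroIsoSelf.hom.app S.X₂ ≫ P.map S.g) := hn ▸ inferInstance
  exact epi_of_epi (P.rightDerivedZeroIsoSelf.hom.app S.X₂) (P.map S.g)

/-- A left exact functor keeps exactness where the kernel of the first map is acyclic. -/
theorem exact_map {S : ShortComplex A} (hS : S.Exact) (h : IsZero ((P.rightDerived 1).obj (kernel S.f))) :
    (S.map P).Exact := by
  let e := kernel.lift S.g S.f S.zero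
  haveI : Epi e := S.exact_iff_epi_kernel_lift.1 hS
  have he : e ≫ kernel.ι S.g = S.f := kernel.lift_ι _ _ _
  have w : kernel.ι S.f ≫ e = 0 := (cancel_mono (kernel.ι S.g)).1 (by rw [Category.assoc, he, kernel.condition, zero_comp])
  have hT : (ShortComplex.mk (kernel.ι S.f) e w).ShortExact :=
    ShortComplex.ShortExact.mk' (ShortComplex.exact_of_f_is_kernel _
      (KernelFork.IsLimit.ofι _ _ (fun k hk => kernel.lift S.f k (by rw [← he, ← Category.assoc, hk, zero_comp]))
        (fun k hk => kernel.lift_ι _ _ _) (fun k hk m hm => (cancel_mono (kernel.ι S.f)).1 (by rw [hm, kernel.lift_ι]))))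
      inferInstance inferInstance
  haveI : Epi (P.map e) := epi_map P hT h
  rw [ShortComplex.exact_iff_epi_kernel_lift]
  have : kernel.lift (S.map P).g (S.map P).f (S.map P).zero = P.map e ≫ (PreservesKernel.iso P S.g).hom := by
    refine (cancel_mono (kernel.ι _)).1 ?_
    rw [kernel.lift_ι, Category.assoc]
    show P.map S.f = P.map e ≫ (PreservesKernel.iso P S.g).hom ≫ kernel.ι (P.map S.g)
    rw [PreservesKernel.iso_hom, kernelComparison_comp_ι, ← P.map_comp, he]
  rw [this]
  infer_instance

end Generic

open BigSiteLib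

variable (K : Precoverage Scheme.{u}) [∀ X : Scheme.{u}, BigSite.EpsCont Scheme.etalePrecoverage K X]

/-- A sheaf for the finer topology as an etale sheaf. -/
noncomputable abbrev epsK (X : Scheme.{u}) : BigSite.Ab K X ⥤ BigSite.Ab Scheme.etalePrecoverage X :=
  BigSite.eps Scheme.etalePrecoverage K X AddCommGrpCat.{u + 1}

instance epsK_faithful (X : Scheme.{u}) : (epsK K X).Faithful :=
  ⟨fun {F G a b} h => ObjectProperty.hom_ext _ (NatTrans.ext (funext fun V => congr(($h).hom.app V)))⟩

instance epsK_full (X : Scheme.{u}) : (epsK K X).Full :=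
  ⟨fun {F G} a => ⟨ObjectProperty.homMk { app := fun V => a.hom.app V, naturality := fun _ _ k => a.hom.naturality k },
    ObjectProperty.hom_ext _ (NatTrans.ext (funext fun _ => rfl))⟩⟩

instance epsK_preservesFiniteLimits (X : Scheme.{u}) : PreservesFiniteLimits (epsK K X) := by
  haveI : (epsK K X).IsRightAdjoint := (BigSite.epsAdj Scheme.etalePrecoverage K X).isRightAdjoint
  infer_instance

theorem epsPull_preservesFiniteLimits (X : Scheme.{u}) :
    PreservesFiniteLimits (BigSite.epsPull Scheme.etalePrecoverage K X) :=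
  sheafPullback_preservesFiniteLimits (𝟭 (Over X)) _ _

instance epsK_preservesInjective (X : Scheme.{u}) : (epsK K X).PreservesInjectiveObjects := by
  haveI := epsPull_preservesFiniteLimits K X
  haveI : (BigSite.epsPull Scheme.etalePrecoverage K X).PreservesMonomorphisms :=
    preservesMonomorphisms_of_preservesLimitsOfShape _
  exact ⟨fun {I} _ => Injective.injective_of_adjoint (BigSite.epsAdj Scheme.etalePrecoverage K X) I⟩

variable {K}

/-- Exactness may be checked in the etale topology. -/
theorem exact_of_eps (hK : Scheme.etalePrecoverage ≤ K) {X : Scheme.{u}} {S : ShortComplex (BigSite.Ab K X)}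
    (h : (S.map (epsK K X)).Exact) : S.Exact :=
  FppfDesc.exact_of_locally_boundary fun U x hx => BigSite.J_mono hK X U (FppfDesc.locally_boundary h x hx)

variable (hph : K ≤ HTop.phPrecoverage) {X : Scheme.{u}}

/-- The pullback from the small etale site, as a sheaf for the finer topology. -/
noncomputable abbrev piK (F : EtCoh.Ab X) : BigSite.Ab K X :=
  ⟨((BigSite.piEtPull Scheme.etalePrecoverage X).obj F).obj,
    EtPBC0.isSheaf_piPull ((Precoverage.toGrothendieck_mono hph).trans EtPBC0.phTopology_le_vTop) F⟩

/-- Functoriality of the pullback from the small etale site. -/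
noncomputable def piKMap {F G : EtCoh.Ab X} (a : F ⟶ G) : piK hph F ⟶ piK hph G :=
  ObjectProperty.homMk ((BigSite.piEtPull Scheme.etalePrecoverage X).map a).hom

theorem piKMap_zero {F G : EtCoh.Ab X} : piKMap hph (0 : F ⟶ G) = 0 := by
  refine (epsK K X).map_injective ?_
  haveI : (BigSite.piEtPull Scheme.etalePrecoverage X).IsLeftAdjoint :=
    (BigSite.piEtAdj Scheme.etalePrecoverage X).isLeftAdjoint
  rw [(epsK K X).map_zero]
  exact (BigSite.piEtPull Scheme.etalePrecoverage X).map_zero _ _

/-- The direct image of a pulled back sheaf along a proper morphism. -/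
noncomputable def piKPushIso {Y : Scheme.{u}} (f : Y ⟶ X) [IsProper f] (G : EtCoh.Ab Y) :
    piK hph ((EtCoh.push f).obj G) ≅ (BigSite.pushBig K f AddCommGrpCat.{u + 1}).obj (piK hph G) :=
  haveI := EtPBC0.isIso_theta_proper f G
  (fullyFaithfulSheafToPresheaf _ _).preimageIso
    (show (piK hph ((EtCoh.push f).obj G)).obj ≅ _ from
      (sheafToPresheaf (QuotSh.J Scheme.etalePrecoverage X) _).mapIso (asIso (theta f G)))

/-- The vanishing of the higher direct images to the big etale site in degree `m + 1`. -/
def Acy (m : ℕ) : Prop :=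
  ∀ (X : Scheme.{u}) (F : EtCoh.Ab X), EtCoh.IsTorsion F → ∀ I : InjectiveResolution (piK hph F),
    ((FppfDesc.scAt I.cocomplex m).map (epsK K X)).Exact

theorem isZero_rightDerived_piK {m : ℕ} (h : Acy hph m) (F : EtCoh.Ab X) (hF : EtCoh.IsTorsion F) :
    IsZero (((epsK K X).rightDerived (m + 1)).obj (piK hph F)) := by
  let I := injectiveResolution (piK hph F)
  refine IsZero.of_iso ?_ (I.isoRightDerivedObj (epsK K X) (m + 1))
  exact (HomologicalComplex.exactAt_iff_isZero_homology _ _).1
    (FppfDesc.exactAt_of_scAt (((epsK K X).mapHomologicalComplex _).obj I.cocomplex) m (h X F hF I))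

theorem isTorsion_of_epi {G Q : EtCoh.Ab X} (p : G ⟶ Q) [Epi p] (hG : EtCoh.IsTorsion G) : EtCoh.IsTorsion Q := by
  intro U s x
  obtain ⟨V, g, m, hv, hm, hms⟩ := EtLeray.isLTorsion_of_epi p (EtPBCq.isLTorsion_univ hG) U s x
  exact ⟨V, g, hv, isOfFinAddOrder_iff_nsmul_eq_zero.2 ⟨m, hm.1, hms⟩⟩

include hph in
theorem mono_rightDerived_piKMap (hK : Scheme.etalePrecoverage ≤ K) {F G : EtCoh.Ab X} (a : F ⟶ G) [Mono a]
    (hG : EtCoh.IsTorsion G) (m : ℕ) (ih : ∀ k < m, Acy hph k) :
    Mono (((epsK K X).rightDerived (m + 1)).map (piKMap hph a)) := by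
  let π := BigSite.piEtPull Scheme.etalePrecoverage X
  haveI := piEtPull_exact X Scheme.etalePrecoverage
  haveI : π.IsLeftAdjoint := (BigSite.piEtAdj Scheme.etalePrecoverage X).isLeftAdjoint
  haveI : π.Additive := Functor.additive_of_preserves_binary_products _
  have hS : (ShortComplex.mk a (cokernel.π a) (cokernel.condition a)).ShortExact :=
    { exact := ShortComplex.exact_of_g_is_cokernel _ (cokernelIsCokernel a) }
  have hb := hS.map_of_exact π
  have w : piKMap hph a ≫ piKMap hph (cokernel.π a) = 0 := (epsK K X).map_injective (by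
    rw [(epsK K X).map_comp, (epsK K X).map_zero]; exact ((ShortComplex.mk a (cokernel.π a) (cokernel.condition a)).map π).zero)
  let T := ShortComplex.mk (piKMap hph a) (piKMap hph (cokernel.π a)) w
  haveI : Mono ((epsK K X).map T.f) := hb.mono_f
  haveI : Epi ((epsK K X).map T.g) := hb.epi_g
  have hT : T.ShortExact := ShortComplex.ShortExact.mk' (exact_of_eps hK hb.exact)
    ((epsK K X).mono_of_mono_map inferInstance) ((epsK K X).epi_of_epi_map inferInstance)
  let L := SESResLib.derivedLES (epsK K X)
  have hδ : L.δ T hT m (m + 1) rfl = 0 := by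
    rcases m with _ | k
    · have hn : ((epsK K X).rightDerived 0).map T.g ≫ (epsK K X).rightDerivedZeroIsoSelf.hom.app T.X₃ =
          (epsK K X).rightDerivedZeroIsoSelf.hom.app T.X₂ ≫ (epsK K X).map T.g :=
        (epsK K X).rightDerivedZeroIsoSelf.hom.naturality T.g
      haveI : Epi (((epsK K X).rightDerived 0).map T.g) := by
        haveI : Epi (((epsK K X).rightDerived 0).map T.g ≫ (epsK K X).rightDerivedZeroIsoSelf.hom.app T.X₃) := by
          rw [hn]; infer_instance
        exact (MorphismProperty.cancel_right_of_respectsIso (MorphismProperty.epimorphisms _) _ _).1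
          (MorphismProperty.epimorphisms.infer_property
            (((epsK K X).rightDerived 0).map T.g ≫ (epsK K X).rightDerivedZeroIsoSelf.hom.app T.X₃))
      exact (cancel_epi (((epsK K X).rightDerived 0).map T.g)).1
        ((L.comp_δ T hT 0 1 rfl).trans comp_zero.symm)
    · exact (isZero_rightDerived_piK hph (ih k k.lt_succ_self) _ (isTorsion_of_epi (cokernel.π a) hG)).eq_of_src _ _
  exact (L.exact₁ T hT m (m + 1) rfl).mono_g hδ

end Groth.Agent.EtPhAcy
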