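import Groth.Agent.EtPhAcy.Comparison

/-!
# Cohomological descent from topologies below the ph topology to the big etale site
-/

set_option autoImplicit false
set_option linter.style.haveILetI false
set_option backward.isDefEq.respectTransparency false
set_option backward.isDefEq.respectTransparency.types false
set_option maxHeartbeats 1000000

universe w u

open CategoryTheory CategoryTheory.Limits AlgebraicGeometry Opposite

namespace Groth.Agent.EtPhAcy

open BigSiteLib

variable {K : Precoverage Scheme.{u}} [∀ X : Scheme.{u}, BigSite.EpsCont Scheme.etalePrecoverage K X]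
  (hph : K ≤ HTop.phPrecoverage) (hK : Scheme.etalePrecoverage ≤ K) {X : Scheme.{u}}

/-- Restriction of a pulled back sheaf. -/
noncomputable def piKPullIso {Y : Scheme.{u}} (p : Y ⟶ X) (F : EtCoh.Ab X) :
    piK hph ((EtCoh.pull p).obj F) ≅ (BigSite.pullBig K p AddCommGrpCat.{u + 1}).obj (piK hph F) :=
  (fullyFaithfulSheafToPresheaf _ _).preimageIso
    (show (piK hph ((EtCoh.pull p).obj F)).obj ≅ _ from
      (sheafToPresheaf (QuotSh.J Scheme.etalePrecoverage Y) _).mapIso ((piPullIso p).app F))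

include hK in
/-- A cocycle which is locally a coboundary on a proper surjective cover of an object is locally a coboundary. -/
theorem bd_of_proper_over (m : ℕ) (ih : ∀ k < m, Acy hph k) (F : EtCoh.Ab X) (hF : EtCoh.IsTorsion F)
    (I : InjectiveResolution (piK hph F)) (T : Over X) {P : Scheme.{u}} (p : P ⟶ T.left) [IsProper p] [Surjective p]
    (x : (I.cocomplex.X (m + 1)).obj.obj (op T)) (hx : (I.cocomplex.d (m + 1) (m + 2)).hom.app (op T) x = 0)
    (hb : Bd I.cocomplex m ((I.cocomplex.X (m + 1)).obj.map (Over.homMk p : Over.mk (p ≫ T.hom) ⟶ T).op x)) :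
    Bd I.cocomplex m x := by
  let a := T.hom
  let U : Over T.left := Over.mk (𝟙 T.left)
  let k : (Over.map a).obj U ≅ T := Over.isoMk (Iso.refl _) rfl
  let I' := FppfDesc.transportRes (piKPullIso hph a F) (SiteBase.mapResolution (BigSite.pullBig K a AddCommGrpCat.{u + 1}) I)
  refine bd_of_iso I.cocomplex m k ?_
  let x' := (I.cocomplex.X (m + 1)).obj.map k.hom.op x
  refine (bd_map_iff a I.cocomplex m U x').1 ?_
  refine bd_of_proper hph hK m ih p ((EtCoh.pull a).obj F) (GalTorLib.isTorsion_pull a F hF) I' U x' ?_ ?_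
  · exact (ConcreteCategory.congr_hom ((I.cocomplex.d (m + 1) (m + 2)).hom.naturality k.hom.op) x).trans
      ((congrArg _ hx).trans (map_zero ((I.cocomplex.X (m + 2)).obj.map k.hom.op).hom))
  · refine (bd_map_iff a I.cocomplex m ((Over.map p).obj ((Over.pullback p).obj U))
      ((I.cocomplex.X (m + 1)).obj.map ((Over.map a).map ((Over.mapPullbackAdj p).counit.app U)).op x')).2 ?_
    let q : (Over.map a).obj ((Over.map p).obj ((Over.pullback p).obj U)) ⟶ Over.mk (p ≫ T.hom) :=
      Over.homMk (pullback.snd (𝟙 T.left) p) ((Category.assoc _ _ _).symm)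
    have hq : (Over.map a).map ((Over.mapPullbackAdj p).counit.app U) ≫ k.hom =
        q ≫ (Over.homMk p : Over.mk (p ≫ T.hom) ⟶ T) := Over.OverMorphism.ext (by
      show pullback.fst (𝟙 T.left) p ≫ 𝟙 _ = pullback.snd (𝟙 T.left) p ≫ p
      exact pullback.condition)
    exact (congrArg (Bd I.cocomplex m) ((map_map_apply (I.cocomplex.X (m + 1)) _ k.hom x).trans
      ((congrArg (fun f => (I.cocomplex.X (m + 1)).obj.map (Quiver.Hom.op f) x) hq).trans
        (map_map_apply (I.cocomplex.X (m + 1)) q _ x).symm))).mpr (bd_restrict I.cocomplex m q hb)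

/-- Sieves along which being locally a coboundary descends. -/
def Sep {F : EtCoh.Ab X} (I : InjectiveResolution (piK hph F)) (m : ℕ) (T : Scheme.{u}) (S : Sieve T) : Prop :=
  ∀ (U : Over X) (g : U.left ⟶ T) (x : (I.cocomplex.X (m + 1)).obj.obj (op U)),
    (I.cocomplex.d (m + 1) (m + 2)).hom.app (op U) x = 0 →
    (∀ ⦃W : Scheme.{u}⦄ (h : W ⟶ U.left), S (h ≫ g) →
      Bd I.cocomplex m ((I.cocomplex.X (m + 1)).obj.map (Over.homMk h : Over.mk (h ≫ U.hom) ⟶ U).op x)) →
    Bd I.cocomplex m x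

include hK in
theorem sep_of_mem (m : ℕ) (ih : ∀ k < m, Acy hph k) (F : EtCoh.Ab X) (hF : EtCoh.IsTorsion F)
    (I : InjectiveResolution (piK hph F)) (T : Scheme.{u}) (S : Sieve T) (hS : S ∈ K.toGrothendieck T) :
    Sep hph I m T S := by
  have hcyc : ∀ {U V : Over X} (f : V ⟶ U) (x : (I.cocomplex.X (m + 1)).obj.obj (op U)),
      (I.cocomplex.d (m + 1) (m + 2)).hom.app (op U) x = 0 →
        (I.cocomplex.d (m + 1) (m + 2)).hom.app (op V) ((I.cocomplex.X (m + 1)).obj.map f.op x) = 0 :=
    fun {U V} f x hx => (ConcreteCategory.congr_hom ((I.cocomplex.d (m + 1) (m + 2)).hom.naturality f.op) x).trans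
      ((congrArg _ hx).trans (map_zero ((I.cocomplex.X (m + 2)).obj.map f.op).hom))
  rw [Precoverage.mem_toGrothendieck_iff] at hS
  induction hS with
  | top T =>
    intro U g x hx h
    exact bd_of_iso _ m (Over.isoMk (Iso.refl _) (Category.id_comp _).symm) (h (𝟙 _) trivial)
  | pullback T S hS T' f ihS =>
    intro U g x hx h
    exact ihS U (g ≫ f) x hx fun W k hk => h k (by
      show S ((k ≫ g) ≫ f)
      rwa [Category.assoc])
  | transitive T S R hS hR ihS ihR =>
    intro U g x hx h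
    refine ihS U g x hx fun W k hk => ?_
    refine ihR hk (Over.mk (k ≫ U.hom)) (𝟙 _) _ (hcyc _ x hx) fun W' k' hk' => ?_
    have hk'' : R ((k' ≫ k) ≫ g) := by
      have : R ((k' ≫ 𝟙 _) ≫ k ≫ g) := hk'
      simpa using this
    rw [map_map_apply]
    let e : Over.mk (k' ≫ (Over.mk (k ≫ U.hom)).hom) ⟶ Over.mk ((k' ≫ k) ≫ U.hom) :=
      Over.homMk (𝟙 W') ((Category.id_comp _).trans (Category.assoc _ _ _))
    have he : (Over.homMk k' : Over.mk (k' ≫ (Over.mk (k ≫ U.hom)).hom) ⟶ Over.mk (k ≫ U.hom)) ≫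
        (Over.homMk k : Over.mk (k ≫ U.hom) ⟶ U) = e ≫ (Over.homMk (k' ≫ k) : Over.mk ((k' ≫ k) ≫ U.hom) ⟶ U) :=
      Over.OverMorphism.ext (Category.id_comp _).symm
    rw [he, ← map_map_apply]
    exact bd_restrict _ m e (h _ hk'')
  | of T R hR =>
    intro U g x hx h
    obtain ⟨E, rfl⟩ := R.exists_eq_preZeroHypercover
    have hE : HTop.IsPhCover E := (HTop.presieve₀_mem_phPrecoverage_iff E).1 (hph _ hR)
    let Z : U.left.affineOpens → Over X := fun W => Over.mk (W.1.ι ≫ U.hom)
    let z : ∀ W, Z W ⟶ U := fun W => Over.homMk W.1.ι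
    refine bd_of_cover _ m Z z (fun W => inferInstanceAs (Etale W.1.ι)) (fun t => ?_) fun W => ?_
    · obtain ⟨V, hV, ht, -⟩ := exists_isAffineOpen_mem_and_subset (x := t) (U := ⊤) trivial
      exact ⟨⟨V, hV⟩, ⟨t, ht⟩, rfl⟩
    haveI : IsAffine (W.1 : Scheme) := W.2
    obtain ⟨G, hG, hr⟩ := HTopPh.exists_refine hE (W.1.ι ≫ g)
    obtain ⟨P, p, ι, hp, hps, hι, hιp, hcov⟩ := hG.exists_proper
    refine bd_of_proper_over hph hK m ih F hF I (Z W) (p := (show P ⟶ (Z W).left from p)) _ (hcyc _ x hx) ?_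
    let Q : Over X := Over.mk ((show P ⟶ (Z W).left from p) ≫ (Z W).hom)
    let V : G.I₀ → Over X := fun i => Over.mk (ι i ≫ Q.hom)
    let v : ∀ i, V i ⟶ Q := fun i => Over.homMk (ι i)
    refine bd_of_cover _ m V v (fun i => by haveI := hι i; exact inferInstanceAs (Etale (ι i))) hcov fun i => ?_
    obtain ⟨l, e, he⟩ := hr i
    let h₀ : G.X i ⟶ U.left := G.f i ≫ W.1.ι
    have hl : Sieve.generate E.presieve₀ (h₀ ≫ g) := ⟨_, e, E.f l, Presieve.ofArrows.mk l, by
      simp only [h₀, Category.assoc]; exact he⟩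
    let r : V i ⟶ Over.mk (h₀ ≫ U.hom) := Over.homMk (𝟙 _) (by
      show 𝟙 _ ≫ h₀ ≫ U.hom = ι i ≫ p ≫ W.1.ι ≫ U.hom
      rw [Category.id_comp, ← Category.assoc (ι i), hιp i]
      exact Category.assoc _ _ _)
    have hv : v i ≫ (Over.homMk p : Q ⟶ Z W) ≫ z W = r ≫ (Over.homMk h₀ : Over.mk (h₀ ≫ U.hom) ⟶ U) :=
      Over.OverMorphism.ext (by
        show ι i ≫ p ≫ W.1.ι = 𝟙 _ ≫ h₀
        rw [Category.id_comp, ← Category.assoc, hιp i])
    rw [map_map_apply, map_map_apply, Category.assoc, hv, ← map_map_apply]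
    exact bd_restrict _ m r (h h₀ hl)

include hK in
/-- Pulled back torsion sheaves have no higher direct images to the big etale site. -/
theorem acy (m : ℕ) : Acy hph m := by
  induction m using Nat.strong_induction_on with
  | _ m ih =>
  intro X F hF I
  refine FppfDesc.exact_of_locally_boundary fun U x hx => ?_
  have hS := FppfDesc.locally_boundary
    (FppfDesc.scAt_of_exactAt I.cocomplex m (RDer.res_exactAt_succ I.cocomplex I.ι m)) x hx
  refine sep_of_mem hph hK m ih F hF I U.left _ ((GrothendieckTopology.mem_over_iff _ _).1 hS) U (𝟙 _) x hx ?_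
  intro W h hh
  rw [Category.comp_id] at hh
  obtain ⟨t, ht⟩ := (Sieve.overEquiv_iff _ h).1 hh
  refine GrothendieckTopology.superset_covering _ ?_ (GrothendieckTopology.top_mem _ _)
  rintro V q -
  refine ⟨(I.cocomplex.X m).obj.map q.op t, ?_⟩
  exact (ConcreteCategory.congr_hom ((I.cocomplex.d m (m + 1)).hom.naturality q.op) t).trans (congrArg _ ht)

end Groth.Agent.EtPhAcy
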